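import Mathlib
import Cfsg.Agent.Lib.Helper6.BG.S1437Defs
import Cfsg.Agent.Lib.Helper67.BG.Basics
import Cfsg.Agent.Lib.Helper35.BG.Basic
import Cfsg.Agent.Lib.Helper35.BG.S1437Local
import Cfsg.Statements.S1437

/-!
# S1437 (Bender–Glauberman Theorem 15.2, second part): the core

`s1437_core_of` derives the statement of S1437 from helper35's local theorem
`Helper35.BG.s1437_local` (the whole abstract part), the BG front-end packages `PK1`, `PK2`, `PK9`,
`PK10` of `S1437Defs` and the earlier statements of the chain, all as hypotheses.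
-/

set_option autoImplicit false

namespace Cfsg.Agent.Lib.Helper6.BG37

open Cfsg

open scoped Pointwise

universe u

/-- `S ⊔ K = M` with `K` normalizing `S` and coprime orders: `S` and `K` are complements in `M`. -/
theorem isComplIn_of_sup_eq {G : Type u} [Group G] (S K M : Subgroup G)
    (hKS : K ≤ Subgroup.normalizer (S : Set G)) (hsup : S ⊔ K = M)
    (hcop : (Nat.card S).Coprime (Nat.card K)) : Cfsg.IsComplIn S K M := by
  refine ⟨hsup ▸ le_sup_left, hsup ▸ le_sup_right, disjoint_iff.mp (Subgroup.disjoint_of_coprime_natCard hcop), ?_⟩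
  intro m hm
  rw [← hsup] at hm
  have h1 : (↑(S ⊔ K) : Set G) = (S : Set G) * (K : Set G) :=
    Subgroup.coe_mul_of_right_le_normalizer_left S K hKS
  have h2 : m ∈ (S : Set G) * (K : Set G) := by
    rw [← h1]
    exact hm
  obtain ⟨a, ha, b, hb, rfl⟩ := Set.mem_mul.mp h2
  exact ⟨a, ha, b, hb, rfl⟩

/-- Statement S1437 from the front-end packages and the earlier statements of the chain. -/
theorem s1437_core_of (pk1 : PK1.{u}) (pk2 : PK2.{u}) (pk9 : PK9.{u}) (pk10 : PK10.{u})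
    {G : Type u} [Group G] [Finite G] (hG : Cfsg.IsMinSimpleOddOrder G)
    (h1350 : type_of% (@Cfsg.CfsgFrozen.S1350 G _ _ hG))
    (h1351 : type_of% (@Cfsg.CfsgFrozen.S1351 G _ _ hG))
    (h1352 : type_of% (@Cfsg.CfsgFrozen.S1352 G _ _ hG))
    (h1353 : type_of% (@Cfsg.CfsgFrozen.S1353 G _ _ hG))
    (h1354 : type_of% (@Cfsg.CfsgFrozen.S1354 G _ _ hG))
    (h1366 : type_of% (@Cfsg.CfsgFrozen.S1366 G _ _ hG))
    (h1369 : type_of% (@Cfsg.CfsgFrozen.S1369 G _ _ hG))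
    (h1414 : type_of% (@Cfsg.CfsgFrozen.S1414 G _ _ hG))
    (h1426 : type_of% (@Cfsg.CfsgFrozen.S1426 G _ _ hG))
    (h1429 : type_of% (@Cfsg.CfsgFrozen.S1429 G _ _ hG))
    (h1430 : type_of% (@Cfsg.CfsgFrozen.S1430 G _ _ hG)) :
    type_of% (@Cfsg.CfsgFrozen.S1437 G _ _ hG) := by
  intro M hM K U hKU hne
  obtain ⟨hU, hK1, hder, hnn, hsup, hcop, hNK⟩ := pk1 hG h1350 h1426 h1429 M hM K U hKU hne
  have hq := pk2 hG h1350 h1351 h1352 h1353 h1354 h1366 h1369 h1429 h1430 M hM K U hKU hU hK1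
  have hqF : Fact (Nat.card ↥(Cfsg.sigmaCore M ⊓ Subgroup.centralizer (K : Set G))).Prime := ⟨hq⟩
  have hMtop : M ≠ ⊤ := hM.1
  have hNM : Cfsg.sigmaCore M ≤ M := Cfsg.Agent.Lib.Helper67.BG.sigmaCore_le M
  have hMN : M ≤ Subgroup.normalizer (Cfsg.sigmaCore M : Set G) :=
    Cfsg.Agent.Lib.Helper67.BG.sigmaCore_normalizer M
  have hcompl : Cfsg.IsComplIn (Cfsg.sigmaCore M) K M :=
    isComplIn_of_sup_eq _ K M (hKU.hall.1.trans hMN) hsup hcop
  obtain ⟨Q, hQN, hMQ, hQq, hQsyl, hKsQ, hKp, hD⟩ :=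
    Cfsg.Agent.Lib.Helper35.BG.s1437_local M (Cfsg.sigmaCore M) K
      (Cfsg.sigmaCore M ⊓ Subgroup.centralizer (K : Set G))
      (Nat.card ↥(Cfsg.sigmaCore M ⊓ Subgroup.centralizer (K : Set G)))
      hcompl hMN (Cfsg.Agent.Lib.Helper35.BG.isSolvable_of_ne_top hG hMtop)
      (Cfsg.Agent.Lib.Helper35.BG.odd_card_subgroup hG _) hcop hK1 rfl
      (h1430 M hM K hKU.hall hK1).1 hNK hnn
  have hQ1 : Q ≠ ⊥ := by
    intro hQ
    have h1 : Nat.card ↥(Cfsg.sigmaCore M ⊓ Subgroup.centralizer (K : Set G)) = 1 := by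
      have h2 : Cfsg.sigmaCore M ⊓ Subgroup.centralizer (K : Set G) = ⊥ :=
        le_bot_iff.mp (hQ ▸ hKsQ)
      rw [h2]
      exact Subgroup.card_bot
    rw [h1] at hq
    exact Nat.not_prime_one hq
  have hQF : Q ≤ Cfsg.fittingHallOf M := pk10 hG h1350 M hM _ hq Q hQN hQ1 hQq hQsyl hMQ
  have hqM : Nat.card ↥(Cfsg.sigmaCore M ⊓ Subgroup.centralizer (K : Set G)) ∣ Nat.card M :=
    Subgroup.card_dvd_of_le (inf_le_left.trans hNM)
  have hbeta := pk9 hG h1414 M hM _ hq hqM Q hQN hQq hQsyl (hNM.trans hMQ)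
    (fun D hDc => (hD D hDc).1) hnn
  refine ⟨hU, hder, hKp, hq, Subgroup.card_dvd_of_le (hKsQ.trans hQF), hbeta, Q, hQF, hMQ, hQq,
    hQsyl, ?_⟩
  intro D hDc
  obtain ⟨h1, -, h3, h4, h5, h6, h7⟩ := hD D hDc
  exact ⟨h1, h3, h4, h5, h6, h7⟩

end Cfsg.Agent.Lib.Helper6.BG37
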