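import Mathlib
import Cfsg.Agent.Lib.Helper6.BG.S1437Core
import Cfsg.Agent.Lib.Helper71.BG37.PK1
import Cfsg.Agent.Lib.Helper71.BG37.PK2
import Cfsg.Agent.Lib.Helper35.BG37.PK9
import Cfsg.Agent.Lib.Helper35.BG37.PK10

/-!
# S1437 (Bender–Glauberman Theorem 15.2, second part): core lemma

`s1437_core`: the statement of S1437 with the earlier statements S1350, S1351, S1352, S1353, S1354,
S1366, S1369, S1414, S1426, S1429, S1430 of the chain as hypotheses (team project: local theorem by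
helper35, front-end packages by helper71 and helper35, assembly by helper6).
-/

set_option autoImplicit false

namespace Cfsg.Agent.Lib.Helper6.BG37

open Cfsg

universe u

/-- Statement S1437 with S1350, S1351, S1352, S1353, S1354, S1366, S1369, S1414, S1426, S1429,
S1430 as hypotheses. -/
theorem s1437_core {G : Type u} [Group G] [Finite G] (hG : Cfsg.IsMinSimpleOddOrder G)
    (h1350 : type_of% (@Cfsg.CfsgFrozen.S1350 G _ _ hG))
    (h1351 : type_of% (@Cfsg.CfsgFrozen.S1351 G _ _ hG))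
    (h1352 : type_of% (@Cfsg.CfsgFrozen.S1352 G _ _ hG))
    (h1353 : type_of% (@Cfsg.CfsgFrozen.S1353 G _ _ hG))
    (h1354 : type_of% (@Cfsg.CfsgFrozen.S1354 G _ _ hG))
    (h1366 : type_of% (@Cfsg.CfsgFrozen.S1366 G _ _ hG))
    (h1369 : type_of% (@Cfsg.CfsgFrozen.S1369 G _ _ hG))
    (h1414 : type_of% (@Cfsg.CfsgFrozen.S1414 G _ _ hG))
    (h1426 : type_of% (@Cfsg.CfsgFrozen.S1426 G _ _ hG))
    (h1429 : type_of% (@Cfsg.CfsgFrozen.S1429 G _ _ hG))
    (h1430 : type_of% (@Cfsg.CfsgFrozen.S1430 G _ _ hG)) :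
    type_of% (@Cfsg.CfsgFrozen.S1437 G _ _ hG) :=
  s1437_core_of Cfsg.Agent.Lib.Helper71.BG37.pk1 Cfsg.Agent.Lib.Helper71.BG37.pk2
    Cfsg.Agent.Lib.Helper35.BG37.pk9 Cfsg.Agent.Lib.Helper35.BG37.pk10 hG
    h1350 h1351 h1352 h1353 h1354 h1366 h1369 h1414 h1426 h1429 h1430

end Cfsg.Agent.Lib.Helper6.BG37
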